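import Groth.Agent.Lib.Depth.HartogsModExt
import Groth.Agent.Lib.BCCoh.Grauert2
import Mathlib.RingTheory.Regular.RegularSequence
import Mathlib.RingTheory.Regular.Flat

/-!
Restriction of sections of a flat quasi-coherent module across points where the structure sheaf has
depth `≥ 2` is bijective (no finiteness on the module).
-/

universe u

open CategoryTheory AlgebraicGeometry TopologicalSpace Opposite RingTheory.Sequence
open GrothLib.Depth
open scoped Pointwise

namespace GrothLib.Depth14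

variable {X : Scheme.{u}} {M : X.Modules} [M.IsQuasicoherent]

/-- A regular pair of functions is a regular pair on a flat module. -/
theorem regPair_of_flat (hM : FlatMod.IsFlat M) {W : X.Opens} (hW : IsAffineOpen W) {a b : Γ(X, W)}
    (h : IsWeaklyRegular Γ(X, W) [a, b]) : RegPair M a b := by
  haveI := BCCoh.flat_sections_self M hM hW
  have h' := (TensorProduct.lid Γ(X, W) Γ(M, W)).isWeaklyRegular_congr [a, b] |>.1
    (h.isWeaklyRegular_rTensor (M₂ := Γ(M, W)))
  rw [isWeaklyRegular_cons_iff, isWeaklyRegular_cons_iff] at h'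
  obtain ⟨ha, hb, -⟩ := h'
  refine ⟨fun μ hμ => ha (hμ.trans (smul_zero a).symm), fun μ ν h => ?_⟩
  have h1 := (isSMulRegular_quotient_iff_mem_of_smul_mem _ _).mp hb μ
    (Submodule.mem_smul_pointwise_iff_exists _ _ _ |>.mpr ⟨ν, Submodule.mem_top, h.symm⟩)
  obtain ⟨c, -, hc⟩ := (Submodule.mem_smul_pointwise_iff_exists _ _ _).mp h1
  exact ⟨c, hc.symm⟩

theorem exists_regPair_flat [IsLocallyNoetherian X] (hM : FlatMod.IsFlat M) (C : Set X) (hC : IsClosed C) {x : X}
    (hmax : ∀ y ∈ C, y ⤳ x → y = x)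
    (hdepth : (2 : ℕ∞) ≤ LocCoh.depth (X.presheaf.stalk x) (X.presheaf.stalk x))
    {V : X.Opens} (hxV : x ∈ V) :
    ∃ W : X.Opens, IsAffineOpen W ∧ W ≤ V ∧ x ∈ W ∧ ∃ a b : Γ(X, W),
      RegPair M a b ∧ ∀ y ∈ C, y ∉ X.basicOpen a ∧ y ∉ X.basicOpen b := by
  obtain ⟨W, hW, hWV, hxW, a, b, hab, hC'⟩ := exists_nice_nhd C hC hmax hdepth hxV
  exact ⟨W, hW, hWV, hxW, a, b, regPair_of_flat hM hW hab, hC'⟩

theorem exists_common_extension' {W V : X.Opens} (hW : IsAffineOpen W) {a b : Γ(X, W)}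
    (hab : RegPair M a b) (T : Γ(M, V)) (hDa : X.basicOpen a ≤ V) (hDb : X.basicOpen b ≤ V) :
    ∃ c : Γ(M, W), mres M (X.basicOpen_le a) c = mres M hDa T := by
  obtain ⟨hra, hrb⟩ := hab
  obtain ⟨n, p, hp⟩ := exists_mres_eq hW a (mres M hDa T)
  obtain ⟨m, q, hq⟩ := exists_mres_eq hW b (mres M hDb T)
  have hle1 : X.basicOpen (a * b) ≤ X.basicOpen a := (X.basicOpen_mul a b).le.trans inf_le_left
  have hle2 : X.basicOpen (a * b) ≤ X.basicOpen b := (X.basicOpen_mul a b).le.trans inf_le_right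
  have h1 := congrArg (mres M hle1) hp
  have h2 := congrArg (mres M hle2) hq
  rw [mres_mres, mres_smul, mres_mres] at h1 h2
  have key : mres M (X.basicOpen_le (a * b)) (b ^ m • p) = mres M (X.basicOpen_le (a * b)) (a ^ n • q) := by
    rw [mres_smul, mres_smul, h1, h2]
    simp only [res, map_pow, ← ConcreteCategory.comp_apply, ← X.presheaf.map_comp, ← op_comp, homOfLE_comp]
    rw [smul_comm]
  obtain ⟨k, hk⟩ := exists_pow_smul_eq hW (a * b) _ _ key
  have hra' : ∀ (j : ℕ) (z : Γ(M, W)), a ^ j • z = 0 → z = 0 := by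
    intro j
    induction j with
    | zero => intro z hz; simpa using hz
    | succ j ih => intro z hz; exact ih z (hra _ (by rwa [← mul_smul, ← pow_succ']))
  have hpow : ∀ (N : ℕ) (j : ℕ) (y z : Γ(M, W)), b ^ j • y = a ^ N • z → ∃ c, y = a ^ N • c := by
    intro N
    induction N with
    | zero => exact fun j y z _ => ⟨y, by rw [pow_zero, one_smul]⟩
    | succ N ih =>
      have hone : ∀ (j : ℕ) (y z : Γ(M, W)), b ^ j • y = a • z → ∃ c, y = a • c := by
        intro j
        induction j with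
        | zero => exact fun y z h => ⟨z, by simpa using h⟩
        | succ j ihj =>
          intro y z h
          rw [pow_succ', mul_smul] at h
          obtain ⟨c, hc⟩ := hrb _ _ h
          exact ihj y c hc
      intro j y z h
      rw [pow_succ', mul_smul] at h
      obtain ⟨y', rfl⟩ := hone j y _ h
      obtain ⟨c, rfl⟩ := ih j y' z (sub_eq_zero.mp (hra _ (by rw [smul_sub, sub_eq_zero, smul_comm]; exact h)))
      exact ⟨c, by rw [pow_succ', mul_smul]⟩
  obtain ⟨c, hc⟩ := hpow n (k + m) p (b ^ k • q) (sub_eq_zero.mp (hra' k _ (by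
    rw [smul_sub, sub_eq_zero]
    simp only [smul_smul, mul_pow] at hk ⊢
    calc (a ^ k * b ^ (k + m)) • p = (a ^ k * b ^ k * b ^ m) • p := by rw [pow_add, mul_assoc]
      _ = _ := hk
      _ = (a ^ k * (a ^ n * b ^ k)) • q := by congr 1; ring)))
  refine ⟨c, (isUnit_res_pow a n).smul_left_cancel.mp ?_⟩
  rw [← hp, hc, mres_smul]
  simp only [res, map_pow]

variable [IsLocallyNoetherian X] {U : X.Opens} (hM : FlatMod.IsFlat M) (hU : DepthTwoOutside U)
include hM hU

theorem mres_injective (V : X.Opens) : Function.Injective (mres M (inf_le_left : V ⊓ U ≤ V)) := by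
  intro s t hst
  refine TopCat.Presheaf.section_ext ⟨M.presheaf, M.isSheaf⟩ V s t fun y hy => ?_
  let Z : Set X := {z | ∃ hz : z ∈ V, M.presheaf.germ V z hz s ≠ M.presheaf.germ V z hz t}
  have hZ : ∀ z, z ∈ closure Z → z ∈ V → z ∈ Z := by
    intro z hz hzV
    by_contra hne
    have heq : M.presheaf.germ V z hzV s = M.presheaf.germ V z hzV t := not_not.mp fun h => hne ⟨hzV, h⟩
    obtain ⟨W, hzW, iU, iV, hW⟩ := TopCat.Presheaf.germ_eq M.presheaf z hzV hzV s t heq
    obtain ⟨z', hz'W, hz'V, hz'⟩ := mem_closure_iff.mp hz W W.2 hzW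
    exact hz' ((TopCat.Presheaf.germ_res_apply _ iU _ hz'W s).symm.trans
      ((congrArg _ hW).trans (TopCat.Presheaf.germ_res_apply _ iV _ hz'W t)))
  have hZU : ∀ z ∈ Z, z ∉ U := by
    rintro z ⟨hzV, hz⟩ hzU
    refine hz ?_
    rw [← germ_mres M inf_le_left z ⟨hzV, hzU⟩ s, ← germ_mres M inf_le_left z ⟨hzV, hzU⟩ t, hst]
  by_contra hne
  obtain ⟨x, hxC, hxy, hxmax⟩ := exists_maximal_generalization (C := closure Z) isClosed_closure
    (x₀ := y) (subset_closure ⟨hy, hne⟩)
  have hxV : x ∈ V := hxy.mem_open V.2 hy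
  obtain ⟨hxV, hxne⟩ := hZ x hxC hxV
  obtain ⟨W, hW, hWV, hxW, a, b, hab, hC⟩ :=
    exists_regPair_flat hM (closure Z) isClosed_closure hxmax (hU x (hZU x ⟨hxV, hxne⟩)) hxV
  refine hxne ?_
  rw [← germ_mres M hWV x hxW s, ← germ_mres M hWV x hxW t]
  refine congrArg _ (eq_of_regular_of_germ_eq hW hab.1 le_rfl fun z hzW hza => ?_)
  rw [germ_mres, germ_mres]
  by_contra h
  exact (hC z (subset_closure ⟨hWV hzW, h⟩)).1 hza

theorem mres_surjective (V : X.Opens) : Function.Surjective (mres M (inf_le_left : V ⊓ U ≤ V)) := by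
  intro s
  let P := Σ' (W : X.Opens) (hW : W ≤ V), {t : Γ(M, W) //
    mres M (inf_le_left : W ⊓ U ≤ W) t = mres M (inf_le_inf_right U hW) s}
  let Wf : P → X.Opens := fun i => i.1
  let tf : ∀ i : P, Γ(M, Wf i) := fun i => i.2.2.1
  let F : TopCat.Sheaf Ab X := ⟨M.presheaf, M.isSheaf⟩
  have hcompat : TopCat.Presheaf.IsCompatible F.1 Wf tf := by
    intro i j
    apply mres_injective hM hU (Wf i ⊓ Wf j)
    show mres M inf_le_left (mres M inf_le_left (tf i)) = mres M inf_le_left (mres M inf_le_right (tf j))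
    rw [mres_mres, mres_mres]
    have h1 := congrArg (mres M (inf_le_inf_right U (inf_le_left : Wf i ⊓ Wf j ≤ Wf i))) i.2.2.2
    have h2 := congrArg (mres M (inf_le_inf_right U (inf_le_right : Wf i ⊓ Wf j ≤ Wf j))) j.2.2.2
    rw [mres_mres, mres_mres] at h1 h2
    exact h1.trans h2.symm
  let Vs : X.Opens := iSup Wf
  have hVs : Vs ≤ V := iSup_le fun i => i.2.1
  obtain ⟨T₀, hT, -⟩ := TopCat.Sheaf.existsUnique_gluing' F Wf Vs
    (fun i => homOfLE (le_iSup Wf i)) le_rfl tf hcompat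
  let T : Γ(M, Vs) := T₀
  have hT' : ∀ i : P, mres M (le_iSup Wf i) T = tf i := hT
  clear_value T
  let i₀ : P := ⟨V ⊓ U, inf_le_left, ⟨s, rfl⟩⟩
  have hi₀ : V ⊓ U ≤ Vs := le_iSup Wf i₀
  by_cases hall : V ≤ Vs
  · exact ⟨mres M hall T, (mres_mres M _ _ _).trans (hT' i₀)⟩
  exfalso
  obtain ⟨y, hyV, hyVs⟩ := Set.not_subset.mp hall
  obtain ⟨x, hxC, hxy, hxmax⟩ := exists_maximal_generalization (C := (Vs : Set X)ᶜ)
    Vs.2.isClosed_compl (x₀ := y) hyVs
  have hxV : x ∈ V := hxy.mem_open V.2 hyV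
  obtain ⟨W, hW, hWV, hxW, a, b, hab, hC⟩ := exists_regPair_flat hM (Vs : Set X)ᶜ Vs.2.isClosed_compl hxmax
    (hU x fun h => hxC (hi₀ ⟨hxV, h⟩)) hxV
  have hDa : X.basicOpen a ≤ Vs := fun z hz => by
    by_contra h; exact (hC z h).1 hz
  have hDb : X.basicOpen b ≤ Vs := fun z hz => by
    by_contra h; exact (hC z h).2 hz
  obtain ⟨c, hcT⟩ := exists_common_extension' hW hab T hDa hDb
  have hcs : mres M (inf_le_left : W ⊓ U ≤ W) c = mres M (inf_le_inf_right U hWV) s := by
    refine eq_of_regular_of_germ_eq hW hab.1 inf_le_left fun z hz hza => ?_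
    have h4 : mres M hi₀ T = s := hT' i₀
    rw [germ_mres, germ_mres, ← h4, germ_mres, ← germ_mres M (X.basicOpen_le a) z hza c, hcT, germ_mres]
  exact hxC (le_iSup Wf ⟨W, hWV, ⟨c, hcs⟩⟩ hxW)

theorem mres_bijective (V : X.Opens) : Function.Bijective (mres M (inf_le_left : V ⊓ U ≤ V)) :=
  ⟨mres_injective hM hU V, mres_surjective hM hU V⟩

end GrothLib.Depth14
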